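import Cfsg.Agent.Spor.J22.D0

set_option autoImplicit false
set_option maxRecDepth 100000000
set_option Elab.async false

namespace Cfsg.Agent.Spor.J22

theorem ok0 : Net.okb 9 n0 = true := by decide +kernel

theorem ok1 : Net.okb 9 n1 = true := by decide +kernel

theorem ok2 : Net.okb 9 n2 = true := by decide +kernel

theorem ok3 : Net.okb 9 n3 = true := by decide +kernel

theorem ok4 : Net.okb 9 n4 = true := by decide +kernel

theorem rel0 : T.rel 9 [9, 1, 6, 3] 0 9 = true := by decide +kernel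

theorem rel1 : T.rel 9 [2, 2, 2] 0 9 = true := by decide +kernel

theorem rel2 : T.rel 9 [3, 3, 3] 0 9 = true := by decide +kernel

theorem rel3 : T.rel 9 [4, 4, 4] 0 9 = true := by decide +kernel

theorem rel4 : T.rel 9 [1, 1, 1] 0 9 = true := by decide +kernel

theorem rel5 : T.rel 9 [8, 3, 8, 7, 4, 1] 0 9 = true := by decide +kernel

theorem rel6 : T.rel 9 [6, 5, 2, 3, 6, 1] 0 9 = true := by decide +kernel

theorem rel7 : T.rel 9 [2, 3, 4, 1, 2, 3, 4, 1] 0 9 = true := by decide +kernel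

theorem rel8 : T.rel 9 [3, 4, 7, 1, 3, 4, 7, 1] 0 9 = true := by decide +kernel

theorem rel9 : T.rel 9 [2, 5, 3, 1, 2, 5, 3, 1] 0 9 = true := by decide +kernel

theorem rel10 : T.rel 9 [8, 3, 8, 3, 8, 3, 8, 3, 8, 3] 0 9 = true := by decide +kernel

theorem rel11 : T.rel 9 [6, 1, 6, 1, 6, 1, 6, 1, 6, 1] 0 9 = true := by decide +kernel

theorem rel12 : T.rel 9 [9, 9, 9, 9, 9, 9] 0 9 = true := by decide +kernel

theorem rel13 : T.rel 9 [2, 9, 9, 6, 10, 2, 9, 9, 6, 10] 0 9 = true := by decide +kernel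

theorem rel14 : T.rel 9 [2, 9, 9, 2, 10, 10, 2, 9, 9, 2, 10, 10] 0 9 = true := by decide +kernel

theorem rel15 : T.rel 9 [2, 9, 2, 9, 9, 2, 10, 6, 10, 6, 9, 6, 9] 0 9 = true := by decide +kernel

theorem rel16 : T.rel 9 [2, 10, 2, 10, 2, 10, 2, 10, 2, 10] 0 9 = true := by decide +kernel

theorem hcov : T.treeCov (ones 462) L 1 = true := by decide +kernel

theorem hg : lall (fun z => band (memL L z) (band (sub (ones 462) (T.let z).cl) (T.closed (ones 462) z))) gs = true := by decide +kernel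

theorem hivk : ivOk (2 * 0) EX IV = true := by decide +kernel

theorem hrt : RT.ok (2 * 0) EX RL = true := by decide +kernel

theorem hdefs : defs F 205 = true := by decide +kernel

noncomputable def st0_l : List Nat := [nat_lit 0x3ff, nat_lit 0x3ff, nat_lit 0x1c02, nat_lit 0xce00002403, nat_lit 0x1100002000000000058000bc05, nat_lit 0x100002402, nat_lit 0x2000cd80001c03, nat_lit 0x200002c02, nat_lit 0x1b800040000040000480009c05, nat_lit 0x1e80004800006000058000bc05, nat_lit 0x1f00004c00008000058000d405, nat_lit 0x600068402, nat_lit 0x700004402, nat_lit 0x110000200019f000128001ec05, nat_lit 0x900005402, nat_lit 0x12800024001a5000138001fc05, nat_lit 0xb00007402, nat_lit 0x2a8000b8000160000c80018c05, nat_lit 0xd00008402, nat_lit 0x2b8000d40001e000108001c405, nat_lit 0x1100009402, nat_lit 0x130000a402, nat_lit 0x150000c402, nat_lit 0x170000d402, nat_lit 0x1b0000e402, nat_lit 0x1d0000fc02, nat_lit 0x2100011c02, nat_lit 0x2200012402,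 nat_lit 0x2800015c02, nat_lit 0x390001dc02, nat_lit 0x3a0001e402, nat_lit 0x4e00027c02, nat_lit 0x5200029c02, nat_lit 0x6c4000100019a0000080068405, nat_lit 0x20800050001dc0001c80024405, nat_lit 0x5c0002c802, nat_lit 0x5e0002d402, nat_lit 0x5f0002dc02, nat_lit 0x6400030c02, nat_lit 0x6600031c02, nat_lit 0x6900033c02, nat_lit 0x6a00034402, nat_lit 0x6f00037402, nat_lit 0x7100038402, nat_lit 0x38800180000b2000078000fc05, nat_lit 0x4b0007c802, nat_lit 0x7300039402, nat_lit 0x760003ac02, nat_lit 0xf0000640002d003, nat_lit 0x7a0003bc02, nat_lit 0xf4000f380039403, nat_lit 0x7b0003c402, nat_lit 0x3f800198000b40006080038405, nat_lit 0x800003f402, nat_lit 0x8300040c02, nat_lit 0x8400041402, nat_lit 0x8800043402, nat_lit 0x8b00044c02, nat_lit 0x460001a8000b80005f80037405, nat_lit 0x8e00046402, nat_lit 0x8f00046c02, nat_lit 0x9100048402, nat_lit 0x488001ac000b80005d80036405, nat_lit 0x9200085802, nat_lit 0x9400049c02, nat_lit 0x4a0001b4001e30006180039405,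 nat_lit 0x4a8001b4000bc0005f80037c05, nat_lit 0x9600083802, nat_lit 0x4b0001b8000be0005900068405, nat_lit 0x11e0008c80088000446000080000080003407, nat_lit 0x223000ee00089003, nat_lit 0x1130004b002, nat_lit 0x11300088c02, nat_lit 0x11300088402, nat_lit 0x1140008940001800000000cd80000c06, nat_lit 0x1170007b802, nat_lit 0x11700083802, nat_lit 0x11700037002, nat_lit 0x1170008a002, nat_lit 0x10e0004a0001b4000bc0005f8008d00046e002250000600067c0a, nat_lit 0x11c0007d802, nat_lit 0x11c00087002, nat_lit 0x11c0007f802, nat_lit 0x844004580011e000f680042c05, nat_lit 0x90000238000d40006980044c05, nat_lit 0x120800428003d80011d00120800428003d80011d001208004280a, nat_lit 0x10a0012200047003, nat_lit 0x2100012280043c03, nat_lit 0x11a0012300090c03, nat_lit 0x12300042802, nat_lit 0x1240008b002, nat_lit 0x12400046002, nat_lit 0x1240008c802, nat_lit 0x12500084802, nat_lit 0x83000338001a20010f001278008ac0034000000000cd80001c0a, nat_lit 0x12b00041802,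 nat_lit 0x23c0012b00081c03, nat_lit 0x12d0008f002, nat_lit 0x12d00086c02, nat_lit 0xcf0012c0008ec03, nat_lit 0x820009600000c0019b0000380096406, nat_lit 0x412002630008280098c04, nat_lit 0x13200042002, nat_lit 0x880003400019e00258000cf00003406, nat_lit 0x13400044002, nat_lit 0x13400082c02, nat_lit 0x9b0000180019f0012e00097c05, nat_lit 0x25e0008100099c03, nat_lit 0x25e0008100033800170000b5000648003d407, nat_lit 0x44a001b1000ee0009ac00498000d40006980045408, nat_lit 0x2550013a80045003, nat_lit 0x41a00277000898009dc04, nat_lit 0x13c00045802, nat_lit 0x26c000ee80068000000000030011880087807, nat_lit 0x13780097800204001ea0013d000348001aa00250001298008c40a, nat_lit 0x27c0013f80037803, nat_lit 0x13f0009bc02, nat_lit 0x21e0014080079403, nat_lit 0x282001428002d803, nat_lit 0x25f001438002d403, nat_lit 0x272001438002e403, nat_lit 0x1fb001430009c403, nat_lit 0x1030014480032403, nat_lit 0x1fc0014580034c03, nat_lit 0x260001450008f803, nat_lit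 0x100800a340051e000f100146800a3c06, nat_lit 0x28e001460007ec03, nat_lit 0x14700033802, nat_lit 0x1480003b802, nat_lit 0x1490008e802, nat_lit 0x14900098002, nat_lit 0x14a0003d802, nat_lit 0x7d000328001920029a0013d000a6c06, nat_lit 0xfb0015180032003, nat_lit 0xc40015200032803, nat_lit 0x15300031002, nat_lit 0x1c8000440029c000118001e405, nat_lit 0xe2000600002c80033e0029c000118001e407, nat_lit 0x3a00018c002a8000638003b405, nat_lit 0x1220006b0002e00016a002a8000638003b407, nat_lit 0xabc001d8000c600154000334001fe00203000f80007d009, nat_lit 0xab0003e8002b2001578007e405, nat_lit 0x3f0003d2000eb0015a00075805, nat_lit 0x97000abc02, nat_lit 0x9a0004cc02, nat_lit 0x4d0001e4002a0000798004c405, nat_lit 0x13400079000a8000532001e10000880012407, nat_lit 0x4d8001f0002990006b80048405, nat_lit 0x8640042a002c00009b0003e000540000f30009a800af409, nat_lit 0x15d000af4005840021900158800ae006, nat_lit 0x162000ae802, nat_lit 0x1620004c802, nat_lit 0x4f00040a002b7000eb800aa805,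 nat_lit 0x9e800b2c005560007800011000a700004a0007b000da0007440a, nat_lit 0x2bf0016600081403, nat_lit 0x138001670004d003, nat_lit 0x13a00167000b1803, nat_lit 0x1680004e002, nat_lit 0x1690004e802, nat_lit 0x16b800adc003ae002b5000fc000ae0005ae002b7000eb800ad40a, nat_lit 0x2d60016c8007e003, nat_lit 0x2b80016c800ad003, nat_lit 0x2c80016c8003a803, nat_lit 0xb78005aa002db0016e8001e005, nat_lit 0x1e6002df0017080008804, nat_lit 0x2980017180067803, nat_lit 0x52c002e30014f800b9404, nat_lit 0x59800b9c02, nat_lit 0x12000020002e8000078000fc05, nat_lit 0x4b000ba802, nat_lit 0xa00004f802, nat_lit 0x5200028c00144000a1000bbc05, nat_lit 0x6c4003b8001b1000d2000bc005, nat_lit 0x1490017900077403, nat_lit 0x1470017a80068003, nat_lit 0x1450017b800ba403, nat_lit 0x1430017c80068403, nat_lit 0x1410017d80077003, nat_lit 0x9f800bf402, nat_lit 0xee000bf802, nat_lit 0x2e800006800bf803, nat_lit 0x24000070002fe0000a80015405, nat_lit 0x8003340000100006800bf805,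 nat_lit 0x1dd000d8000bf80000400001000d080077007, nat_lit 0x6780001a002fe00183000c000034000000000cd80001c09, nat_lit 0x1a400183000c0003, nat_lit 0x15000028003000001480020c05, nat_lit 0x7e000130006900060000008000058000d407, nat_lit 0x6980060e001a70018500069800604001a10018680068009, nat_lit 0x38001840007740001000005000108001b407, nat_lit 0x2300006c003090001c800c5405, nat_lit 0x30a000cf000c4803, nat_lit 0x18a00024402, nat_lit 0x3140001c00077400340002e9000078000ec07, nat_lit 0x2480062a0031d000e680025405, nat_lit 0x1e00004400318000118001cc05, nat_lit 0x7800011000c600033c002e90000880012407, nat_lit 0xbb4003a0001b50003d00009000630000230003c800c8409, nat_lit 0xc8c005d8003250019000075805, nat_lit 0x193000c8402, nat_lit 0x708000ea0032900192000bb405, nat_lit 0x708000ea00326000eb000c9805, nat_lit 0x1b300024800ca8000f6001ad000170000ac07, nat_lit 0x1c20003c800cb0000f6001b40002200011c07, nat_lit 0x1970000f402, nat_lit 0xcb800366000490017580073005,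 nat_lit 0x2c0001080032e0002080026405, nat_lit 0x1c600197000038005d0000000000180005407, nat_lit 0x1c6001970000ec006380006c0001000005c07, nat_lit 0xcd00065c0000e001748000440008a001a3000e480022c09, nat_lit 0x1980001ec02, nat_lit 0xcc00004800318000118001dc05, nat_lit 0x1cf0019800009000630000060000180004c07, nat_lit 0xcc80066a0033d00045000c4005, nat_lit 0x19a00021c02, nat_lit 0x2a000ce002, nat_lit 0x7000008000030000a800ce005, nat_lit 0x160006700033b000dd80019c05, nat_lit 0x6ec0069600339000db000d0805, nat_lit 0x2e000ce802, nat_lit 0x18000030000170019d00071805, nat_lit 0x6e4000fc000260000400002c0005e001ac0019f00026c09, nat_lit 0x26000d0802, nat_lit 0xc6c003bc00082000140006900002600342001a700017c09, nat_lit 0x1a50001a402, nat_lit 0x2b8000d40001e0000e80019c00698000580002b8002a409, nat_lit 0x1a700016c02, nat_lit 0xd5c0069c0005f001ac0001b005, nat_lit 0x42000d4802, nat_lit 0xd780039e0009b001aa0006e405, nat_lit 0xd6800060001a80000d80019405,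 nat_lit 0x1ae00070402, nat_lit 0x6fc006c00004c000db80014405, nat_lit 0xda80037e00360001ab800d7c006ca003440019900021c09, nat_lit 0x3f800d9002, nat_lit 0xd98006b4001c600043800db005, nat_lit 0xdc0006cc0035a001a4000c100012000038001840000dc09, nat_lit 0x1b6000dcc02, nat_lit 0xd80006ae0035f001b700071405, nat_lit 0xd80061200037001b9000dc005, nat_lit 0xc5c00628001ca001b9000dc005, nat_lit 0x28000d2000bfc0061200037001b900074c07, nat_lit 0x728006e8003460019e80022805, nat_lit 0x3780001b000c200001800000000058000d407, nat_lit 0x1ab0003f800c440070000378001b900074c07, nat_lit 0x2200006400035001c0000de805, nat_lit 0x1be00020c02, nat_lit 0xdf000050001a40000980013c05, nat_lit 0x54000e0802, nat_lit 0x2380011a00384000440000c80006200350000558006f409, nat_lit 0x2900061e00386001c480027c05, nat_lit 0xe28006d200070001bb80020405, nat_lit 0x6f4007180008e001b900028405, nat_lit 0x1c90002a802, nat_lit 0x17400728000a00002800014c05, nat_lit 0x1cb00017c02,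 nat_lit 0x2880072c0005b001b7000714006fa003890004f800e3809, nat_lit 0xa800053402, nat_lit 0xb100058402, nat_lit 0xb300059402, nat_lit 0xb70005b402, nat_lit 0x5b8002b00014c000a780056c05, nat_lit 0xb8000e9002, nat_lit 0xba0005cc02, nat_lit 0xbd0005e402, nat_lit 0x5e8002bc0039d000ab8005ac05, nat_lit 0x5f0002c000152000a500019405, nat_lit 0x6000073e0017d001d780019000034001a90001a8006b809, nat_lit 0xbf00060400762001af000e400068806, nat_lit 0x1d90005f802, nat_lit 0x2e40015c000a800054c002c6003b4000e8800bb008, nat_lit 0x3a9001db800c9403, nat_lit 0x1dc0005d002, nat_lit 0xc300061402, nat_lit 0x620002d000154000ac8005b405, nat_lit 0xc5000eb002, nat_lit 0x18c000b7000560002980014a000df8001bc07, nat_lit 0x1c8000f0802, nat_lit 0x748006d4001bf00037800f0805, nat_lit 0x2980061e00386001e3800f1005, nat_lit 0x27c0071c001db001e4800f1405, nat_lit 0x6380074e0018d001e500027405, nat_lit 0xc2000598002d200189001df800e880074c0018f001e68007640a, nat_lit 0x3bd001e7800e3803,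 nat_lit 0x1e800061802, nat_lit 0x60800740003d2001cd00028805, nat_lit 0x640002ec0015c000af8005e405, nat_lit 0x1e0800eac007ac00190000bb000ee80065000074000e1800cc40a, nat_lit 0x3c0001ec800d0403, nat_lit 0x1ed0005e802, nat_lit 0x30400164000aa000e70002be003dc000ea000eec08, nat_lit 0x15d001ef000f5403, nat_lit 0x151001f0800e6403, nat_lit 0xa5800f8c02, nat_lit 0x648000580002b001a90002b405, nat_lit 0xcc00065c02, nat_lit 0x66000328003e700056000d8805, nat_lit 0x58000fa802, nat_lit 0x1f4000fb00066e00098000200000fc0012a0031e00049000dfc0a, nat_lit 0x197001f7800e0003, nat_lit 0x195001f8800d9803, nat_lit 0xc9800fcc02]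
theorem st0 : band (steps F IV RT base st0_l 205) (Nat.beq (Nat.add 205 (llen st0_l)) 507) = true := by decide +kernel

theorem rot1_1 : T.rot 1 [5] (sel (ones 462) ip1 1) = true := by decide +kernel

theorem rot1_1r : band (Rule.ok (2 * 0) EX RL ⟨1 :: [5], [], 17, false⟩) (lall (memL L) [5]) = true := by decide +kernel

theorem rot1_2 : T.rot 1 [1, 1] (sel (ones 462) ip1 2) = true := by decide +kernel

theorem rot1_2r : band (Rule.ok (2 * 0) EX RL ⟨1 :: [1, 1], [], 3, true⟩) (lall (memL L) [1, 1]) = true := by decide +kernel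

theorem rot1_3 : T.rot 1 [6, 3, 9] (sel (ones 462) ip1 3) = true := by decide +kernel

theorem rot1_3r : band (Rule.ok (2 * 0) EX RL ⟨1 :: [6, 3, 9], [], 17, false⟩) (lall (memL L) [6, 3, 9]) = true := by decide +kernel

theorem rot1_4 : T.rot 1 [8, 3, 8, 7, 4] (sel (ones 462) ip1 4) = true := by decide +kernel

theorem rot1_4r : band (Rule.ok (2 * 0) EX RL ⟨1 :: [8, 3, 8, 7, 4], [0], 4, true⟩) (lall (memL L) [8, 3, 8, 7, 4]) = true := by decide +kernel

theorem rot1_5 : T.rot 1 [6, 5, 2, 3, 6] (sel (ones 462) ip1 5) = true := by decide +kernel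

theorem rot1_5r : band (Rule.ok (2 * 0) EX RL ⟨1 :: [6, 5, 2, 3, 6], [0], 5, true⟩) (lall (memL L) [6, 5, 2, 3, 6]) = true := by decide +kernel

theorem rot1_6 : T.rot 1 [2, 5, 2, 7, 6] (sel (ones 462) ip1 6) = true := by decide +kernel

theorem rot1_6r : band (Rule.ok (2 * 0) EX RL ⟨1 :: [2, 5, 2, 7, 6], [2, 0], 5, false⟩) (lall (memL L) [2, 5, 2, 7, 6]) = true := by decide +kernel

theorem rot1_7 : T.rot 1 [2, 3, 4, 1, 2, 3, 4] (sel (ones 462) ip1 7) = true := by decide +kernel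

theorem rot1_7r : band (Rule.ok (2 * 0) EX RL ⟨1 :: [2, 3, 4, 1, 2, 3, 4], [0], 6, true⟩) (lall (memL L) [2, 3, 4, 1, 2, 3, 4]) = true := by decide +kernel

theorem rot1_8 : T.rot 1 [3, 4, 7, 1, 3, 4, 7] (sel (ones 462) ip1 8) = true := by decide +kernel

theorem rot1_8r : band (Rule.ok (2 * 0) EX RL ⟨1 :: [3, 4, 7, 1, 3, 4, 7], [0], 7, true⟩) (lall (memL L) [3, 4, 7, 1, 3, 4, 7]) = true := by decide +kernel

theorem rot1_9 : T.rot 1 [2, 5, 3, 1, 2, 5, 3] (sel (ones 462) ip1 9) = true := by decide +kernel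

theorem rot1_9r : band (Rule.ok (2 * 0) EX RL ⟨1 :: [2, 5, 3, 1, 2, 5, 3], [0], 8, true⟩) (lall (memL L) [2, 5, 3, 1, 2, 5, 3]) = true := by decide +kernel

theorem rot1_10 : T.rot 1 [6, 5, 7, 1, 6, 5, 7] (sel (ones 462) ip1 10) = true := by decide +kernel

theorem rot1_10r : band (Rule.ok (2 * 0) EX RL ⟨1 :: [6, 5, 7, 1, 6, 5, 7], [3, 0], 8, false⟩) (lall (memL L) [6, 5, 7, 1, 6, 5, 7]) = true := by decide +kernel

theorem rot1_11 : T.rot 1 [6, 1, 6, 1, 6, 1, 6, 1, 6] (sel (ones 462) ip1 11) = true := by decide +kernel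

theorem rot1_11r : band (Rule.ok (2 * 0) EX RL ⟨1 :: [6, 1, 6, 1, 6, 1, 6, 1, 6], [0], 10, true⟩) (lall (memL L) [6, 1, 6, 1, 6, 1, 6, 1, 6]) = true := by decide +kernel

theorem ep1a : T.treePath [3] (Nat.shiftLeft 1 2) 1 = true := by decide +kernel

theorem ep1b : T.treePath [1, 2] (Nat.shiftLeft 1 7) 1 = true := by decide +kernel

theorem ep1c : band (lall (fun z => Nat.ble z 255) ([3] ++ 1 :: [6, 5])) (concl F IV 507 0x20000d0017f00000804 (encA ([3] ++ 1 :: [6, 5]) 0)) = true := by decide +kernel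

theorem ep1d : band (Rule.ok (2 * 0) EX [] ⟨lapp [1, 2] [6, 5], [], 0, false⟩) (band (lall (memL L) [3]) (lall (memL L) [1, 2])) = true := by decide +kernel

theorem cov1 : T.cover 1 [(sel (ones 462) ip1 1), (sel (ones 462) ip1 2), (sel (ones 462) ip1 3), (sel (ones 462) ip1 4), (sel (ones 462) ip1 5), (sel (ones 462) ip1 6), (sel (ones 462) ip1 7), (sel (ones 462) ip1 8), (sel (ones 462) ip1 9), (sel (ones 462) ip1 10), (sel (ones 462) ip1 11), (Nat.shiftLeft 1 2)] = true := by decide +kernel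

theorem tl1 : T.treeLt 9 1 = true := by decide +kernel

theorem rot2_1 : T.rot 2 [6] (sel (ones 462) ip2 1) = true := by decide +kernel

theorem rot2_1r : band (Rule.ok (2 * 0) EX RL ⟨2 :: [6], [], 17, false⟩) (lall (memL L) [6]) = true := by decide +kernel

theorem rot2_2 : T.rot 2 [2, 2] (sel (ones 462) ip2 2) = true := by decide +kernel

theorem rot2_2r : band (Rule.ok (2 * 0) EX RL ⟨2 :: [2, 2], [], 0, true⟩) (lall (memL L) [2, 2]) = true := by decide +kernel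

theorem rot2_3 : T.rot 2 [5, 10, 7] (sel (ones 462) ip2 3) = true := by decide +kernel

theorem rot2_3r : band (Rule.ok (2 * 0) EX RL ⟨2 :: [5, 10, 7], [], 17, false⟩) (lall (memL L) [5, 10, 7]) = true := by decide +kernel

theorem rot2_4 : T.rot 2 [3, 6, 1, 6, 5] (sel (ones 462) ip2 4) = true := by decide +kernel

theorem rot2_4r : band (Rule.ok (2 * 0) EX RL ⟨2 :: [3, 6, 1, 6, 5], [2, 0], 5, true⟩) (lall (memL L) [3, 6, 1, 6, 5]) = true := by decide +kernel

theorem rot2_5 : T.rot 2 [7, 6, 1, 2, 5] (sel (ones 462) ip2 5) = true := by decide +kernel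

theorem rot2_5r : band (Rule.ok (2 * 0) EX RL ⟨2 :: [7, 6, 1, 2, 5], [0], 5, false⟩) (lall (memL L) [7, 6, 1, 2, 5]) = true := by decide +kernel

theorem rot2_6 : T.rot 2 [5, 2, 7, 6, 1] (sel (ones 462) ip2 6) = true := by decide +kernel

theorem rot2_6r : band (Rule.ok (2 * 0) EX RL ⟨2 :: [5, 2, 7, 6, 1], [2], 5, false⟩) (lall (memL L) [5, 2, 7, 6, 1]) = true := by decide +kernel

theorem rot2_7 : T.rot 2 [3, 4, 1, 2, 3, 4, 1] (sel (ones 462) ip2 7) = true := by decide +kernel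

theorem rot2_7r : band (Rule.ok (2 * 0) EX RL ⟨2 :: [3, 4, 1, 2, 3, 4, 1], [], 6, true⟩) (lall (memL L) [3, 4, 1, 2, 3, 4, 1]) = true := by decide +kernel

theorem rot2_8 : T.rot 2 [5, 3, 1, 2, 5, 3, 1] (sel (ones 462) ip2 8) = true := by decide +kernel

theorem rot2_8r : band (Rule.ok (2 * 0) EX RL ⟨2 :: [5, 3, 1, 2, 5, 3, 1], [], 8, true⟩) (lall (memL L) [5, 3, 1, 2, 5, 3, 1]) = true := by decide +kernel

theorem rot2_9 : T.rot 2 [5, 2, 5, 2, 5, 2, 5, 2, 5] (sel (ones 462) ip2 9) = true := by decide +kernel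

theorem rot2_9r : band (Rule.ok (2 * 0) EX RL ⟨2 :: [5, 2, 5, 2, 5, 2, 5, 2, 5], [2], 10, false⟩) (lall (memL L) [5, 2, 5, 2, 5, 2, 5, 2, 5]) = true := by decide +kernel

theorem rot2_10 : T.rot 2 [9, 9, 6, 10, 2, 9, 9, 6, 10] (sel (ones 462) ip2 10) = true := by decide +kernel

theorem rot2_10r : band (Rule.ok (2 * 0) EX RL ⟨2 :: [9, 9, 6, 10, 2, 9, 9, 6, 10], [], 13, true⟩) (lall (memL L) [9, 9, 6, 10, 2, 9, 9, 6, 10]) = true := by decide +kernel

theorem rot2_11 : T.rot 2 [10, 2, 10, 2, 10, 2, 10, 2, 10] (sel (ones 462) ip2 11) = true := by decide +kernel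

theorem rot2_11r : band (Rule.ok (2 * 0) EX RL ⟨2 :: [10, 2, 10, 2, 10, 2, 10, 2, 10], [], 16, true⟩) (lall (memL L) [10, 2, 10, 2, 10, 2, 10, 2, 10]) = true := by decide +kernel

theorem rot2_12 : T.rot 2 [9, 9, 2, 10, 10, 2, 9, 9, 2, 10, 10] (sel (ones 462) ip2 12) = true := by decide +kernel

theorem rot2_12r : band (Rule.ok (2 * 0) EX RL ⟨2 :: [9, 9, 2, 10, 10, 2, 9, 9, 2, 10, 10], [], 14, true⟩) (lall (memL L) [9, 9, 2, 10, 10, 2, 9, 9, 2, 10, 10]) = true := by decide +kernel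

theorem rot2_13 : T.rot 2 [9, 2, 9, 9, 2, 10, 6, 10, 6, 9, 6, 9] (sel (ones 462) ip2 13) = true := by decide +kernel

theorem rot2_13r : band (Rule.ok (2 * 0) EX RL ⟨2 :: [9, 2, 9, 9, 2, 10, 6, 10, 6, 9, 6, 9], [], 15, true⟩) (lall (memL L) [9, 2, 9, 9, 2, 10, 6, 10, 6, 9, 6, 9]) = true := by decide +kernel

theorem rot2_14 : T.rot 2 [9, 9, 2, 10, 6, 10, 6, 9, 6, 9, 2, 9] (sel (ones 462) ip2 14) = true := by decide +kernel

theorem rot2_14r : band (Rule.ok (2 * 0) EX RL ⟨2 :: [9, 9, 2, 10, 6, 10, 6, 9, 6, 9, 2, 9], [3, 4, 3, 0], 15, true⟩) (lall (memL L) [9, 9, 2, 10, 6, 10, 6, 9, 6, 9, 2, 9]) = true := by decide +kernel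

theorem rot2_15 : T.rot 2 [10, 2, 9, 2, 9, 6, 10, 10, 6, 10, 6, 10] (sel (ones 462) ip2 15) = true := by decide +kernel

theorem rot2_15r : band (Rule.ok (2 * 0) EX RL ⟨2 :: [10, 2, 9, 2, 9, 6, 10, 10, 6, 10, 6, 10], [1, 2, 5], 15, false⟩) (lall (memL L) [10, 2, 9, 2, 9, 6, 10, 10, 6, 10, 6, 10]) = true := by decide +kernel

theorem cov2 : T.cover 2 [(sel (ones 462) ip2 1), (sel (ones 462) ip2 2), (sel (ones 462) ip2 3), (sel (ones 462) ip2 4), (sel (ones 462) ip2 5), (sel (ones 462) ip2 6), (sel (ones 462) ip2 7), (sel (ones 462) ip2 8), (sel (ones 462) ip2 9), (sel (ones 462) ip2 10), (sel (ones 462) ip2 11), (sel (ones 462) ip2 12), (sel (ones 462) ip2 13), (sel (ones 462) ip2 14), (sel (ones 462) ip2 15), 1] = true := by decide +kernel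

theorem tl2 : T.treeLt 9 2 = true := by decide +kernel

theorem rot3_1 : T.rot 3 [7] (sel (ones 462) ip3 1) = true := by decide +kernel

theorem rot3_1r : band (Rule.ok (2 * 0) EX RL ⟨3 :: [7], [], 17, false⟩) (lall (memL L) [7]) = true := by decide +kernel

theorem rot3_2 : T.rot 3 [3, 3] (sel (ones 462) ip3 2) = true := by decide +kernel

theorem rot3_2r : band (Rule.ok (2 * 0) EX RL ⟨3 :: [3, 3], [], 1, true⟩) (lall (memL L) [3, 3]) = true := by decide +kernel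

theorem rot3_3 : T.rot 3 [9, 1, 6] (sel (ones 462) ip3 3) = true := by decide +kernel

theorem rot3_3r : band (Rule.ok (2 * 0) EX RL ⟨3 :: [9, 1, 6], [], 17, false⟩) (lall (memL L) [9, 1, 6]) = true := by decide +kernel

theorem rot3_4 : T.rot 3 [8, 7, 4, 1, 8] (sel (ones 462) ip3 4) = true := by decide +kernel

theorem rot3_4r : band (Rule.ok (2 * 0) EX RL ⟨3 :: [8, 7, 4, 1, 8], [6], 4, true⟩) (lall (memL L) [8, 7, 4, 1, 8]) = true := by decide +kernel

theorem rot3_5 : T.rot 3 [4, 7, 4, 5, 8] (sel (ones 462) ip3 5) = true := by decide +kernel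

theorem rot3_5r : band (Rule.ok (2 * 0) EX RL ⟨3 :: [4, 7, 4, 5, 8], [0, 6], 4, false⟩) (lall (memL L) [4, 7, 4, 5, 8]) = true := by decide +kernel

theorem rot3_6 : T.rot 3 [6, 1, 6, 5, 2] (sel (ones 462) ip3 6) = true := by decide +kernel

theorem rot3_6r : band (Rule.ok (2 * 0) EX RL ⟨3 :: [6, 1, 6, 5, 2], [0, 3, 4], 5, true⟩) (lall (memL L) [6, 1, 6, 5, 2]) = true := by decide +kernel

theorem rot3_7 : T.rot 3 [4, 1, 2, 3, 4, 1, 2] (sel (ones 462) ip3 7) = true := by decide +kernel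

theorem rot3_7r : band (Rule.ok (2 * 0) EX RL ⟨3 :: [4, 1, 2, 3, 4, 1, 2], [3], 6, true⟩) (lall (memL L) [4, 1, 2, 3, 4, 1, 2]) = true := by decide +kernel

theorem rot3_8 : T.rot 3 [4, 7, 1, 3, 4, 7, 1] (sel (ones 462) ip3 8) = true := by decide +kernel

theorem rot3_8r : band (Rule.ok (2 * 0) EX RL ⟨3 :: [4, 7, 1, 3, 4, 7, 1], [], 7, true⟩) (lall (memL L) [4, 7, 1, 3, 4, 7, 1]) = true := by decide +kernel

theorem rot3_9 : T.rot 3 [8, 7, 5, 3, 8, 7, 5] (sel (ones 462) ip3 9) = true := by decide +kernel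

theorem rot3_9r : band (Rule.ok (2 * 0) EX RL ⟨3 :: [8, 7, 5, 3, 8, 7, 5], [0], 7, false⟩) (lall (memL L) [8, 7, 5, 3, 8, 7, 5]) = true := by decide +kernel

theorem rot3_10 : T.rot 3 [1, 2, 5, 3, 1, 2, 5] (sel (ones 462) ip3 10) = true := by decide +kernel

theorem rot3_10r : band (Rule.ok (2 * 0) EX RL ⟨3 :: [1, 2, 5, 3, 1, 2, 5], [0, 4], 8, true⟩) (lall (memL L) [1, 2, 5, 3, 1, 2, 5]) = true := by decide +kernel

theorem rot3_11 : T.rot 3 [8, 3, 8, 3, 8, 3, 8, 3, 8] (sel (ones 462) ip3 11) = true := by decide +kernel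

theorem rot3_11r : band (Rule.ok (2 * 0) EX RL ⟨3 :: [8, 3, 8, 3, 8, 3, 8, 3, 8], [4], 9, true⟩) (lall (memL L) [8, 3, 8, 3, 8, 3, 8, 3, 8]) = true := by decide +kernel

theorem ep0a : T.treePath [1] (Nat.shiftLeft 1 1) 1 = true := by decide +kernel

theorem ep0b : T.treePath [1] (Nat.shiftLeft 1 1) 1 = true := by decide +kernel

theorem ep0c : band (lall (fun z => Nat.ble z 255) ([1] ++ 3 :: [5])) (concl F IV 507 0x10017400000003 (encA ([1] ++ 3 :: [5]) 0)) = true := by decide +kernel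

theorem ep0d : band (Rule.ok (2 * 0) EX [] ⟨lapp [1] [5], [], 0, false⟩) (band (lall (memL L) [1]) (lall (memL L) [1])) = true := by decide +kernel

theorem ep3a : T.treePath [8, 2] (Nat.shiftLeft 1 23) 1 = true := by decide +kernel

theorem ep3b : T.treePath [4, 5, 4] (Nat.shiftLeft 1 66) 1 = true := by decide +kernel

theorem ep3c : band (lall (fun z => Nat.ble z 255) ([8, 2] ++ 3 :: [8, 1, 8])) (concl F IV 507 0x2800074000d2003f40001600002806 (encA ([8, 2] ++ 3 :: [8, 1, 8]) 0)) = true := by decide +kernel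

theorem ep3d : band (Rule.ok (2 * 0) EX [] ⟨lapp [4, 5, 4] [8, 1, 8], [], 0, false⟩) (band (lall (memL L) [8, 2]) (lall (memL L) [4, 5, 4])) = true := by decide +kernel

theorem cov3 : T.cover 3 [(sel (ones 462) ip3 1), (sel (ones 462) ip3 2), (sel (ones 462) ip3 3), (sel (ones 462) ip3 4), (sel (ones 462) ip3 5), (sel (ones 462) ip3 6), (sel (ones 462) ip3 7), (sel (ones 462) ip3 8), (sel (ones 462) ip3 9), (sel (ones 462) ip3 10), (sel (ones 462) ip3 11), (Nat.shiftLeft 1 1), (Nat.shiftLeft 1 23)] = true := by decide +kernel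

theorem tl3 : T.treeLt 9 3 = true := by decide +kernel

theorem rot4_1 : T.rot 4 [8] (sel (ones 462) ip4 1) = true := by decide +kernel

theorem rot4_1r : band (Rule.ok (2 * 0) EX RL ⟨4 :: [8], [], 17, false⟩) (lall (memL L) [8]) = true := by decide +kernel

theorem rot4_2 : T.rot 4 [4, 4] (sel (ones 462) ip4 2) = true := by decide +kernel

theorem rot4_2r : band (Rule.ok (2 * 0) EX RL ⟨4 :: [4, 4], [], 2, true⟩) (lall (memL L) [4, 4]) = true := by decide +kernel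

theorem rot4_3 : T.rot 4 [1, 8, 3, 8, 7] (sel (ones 462) ip4 3) = true := by decide +kernel

theorem rot4_3r : band (Rule.ok (2 * 0) EX RL ⟨4 :: [1, 8, 3, 8, 7], [0, 6], 4, true⟩) (lall (memL L) [1, 8, 3, 8, 7]) = true := by decide +kernel

theorem rot4_4 : T.rot 4 [7, 4, 5, 8, 3] (sel (ones 462) ip4 4) = true := by decide +kernel

theorem rot4_4r : band (Rule.ok (2 * 0) EX RL ⟨4 :: [7, 4, 5, 8, 3], [6, 5, 6], 4, false⟩) (lall (memL L) [7, 4, 5, 8, 3]) = true := by decide +kernel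

theorem rot4_5 : T.rot 4 [5, 8, 3, 4, 7] (sel (ones 462) ip4 5) = true := by decide +kernel

theorem rot4_5r : band (Rule.ok (2 * 0) EX RL ⟨4 :: [5, 8, 3, 4, 7], [6], 4, false⟩) (lall (memL L) [5, 8, 3, 4, 7]) = true := by decide +kernel

theorem rot4_6 : T.rot 4 [1, 2, 3, 4, 1, 2, 3] (sel (ones 462) ip4 6) = true := by decide +kernel

theorem rot4_6r : band (Rule.ok (2 * 0) EX RL ⟨4 :: [1, 2, 3, 4, 1, 2, 3], [0, 6], 6, true⟩) (lall (memL L) [1, 2, 3, 4, 1, 2, 3]) = true := by decide +kernel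

theorem rot4_7 : T.rot 4 [7, 1, 3, 4, 7, 1, 3] (sel (ones 462) ip4 7) = true := by decide +kernel

theorem rot4_7r : band (Rule.ok (2 * 0) EX RL ⟨4 :: [7, 1, 3, 4, 7, 1, 3], [5], 7, true⟩) (lall (memL L) [7, 1, 3, 4, 7, 1, 3]) = true := by decide +kernel

theorem rot4_8 : T.rot 4 [7, 4, 7, 4, 7, 4, 7, 4, 7] (sel (ones 462) ip4 8) = true := by decide +kernel

theorem rot4_8r : band (Rule.ok (2 * 0) EX RL ⟨4 :: [7, 4, 7, 4, 7, 4, 7, 4, 7], [6], 9, false⟩) (lall (memL L) [7, 4, 7, 4, 7, 4, 7, 4, 7]) = true := by decide +kernel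

theorem cov4 : T.cover 4 [(sel (ones 462) ip4 1), (sel (ones 462) ip4 2), (sel (ones 462) ip4 3), (sel (ones 462) ip4 4), (sel (ones 462) ip4 5), (sel (ones 462) ip4 6), (sel (ones 462) ip4 7), (sel (ones 462) ip4 8)] = true := by decide +kernel

theorem tl4 : T.treeLt 9 4 = true := by decide +kernel

theorem rot5_1 : T.rot 5 [1] (sel (ones 462) ip5 1) = true := by decide +kernel

theorem rot5_1r : band (Rule.ok (2 * 0) EX RL ⟨5 :: [1], [], 17, false⟩) (lall (memL L) [1]) = true := by decide +kernel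

theorem rot5_2 : T.rot 5 [5, 5] (sel (ones 462) ip5 2) = true := by decide +kernel

theorem rot5_2r : band (Rule.ok (2 * 0) EX RL ⟨5 :: [5, 5], [], 3, false⟩) (lall (memL L) [5, 5]) = true := by decide +kernel

theorem rot5_3 : T.rot 5 [10, 7, 2] (sel (ones 462) ip5 3) = true := by decide +kernel

theorem rot5_3r : band (Rule.ok (2 * 0) EX RL ⟨5 :: [10, 7, 2], [], 17, false⟩) (lall (memL L) [10, 7, 2]) = true := by decide +kernel

theorem rot5_4 : T.rot 5 [8, 3, 4, 7, 4] (sel (ones 462) ip5 4) = true := by decide +kernel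

theorem rot5_4r : band (Rule.ok (2 * 0) EX RL ⟨5 :: [8, 3, 4, 7, 4], [], 4, false⟩) (lall (memL L) [8, 3, 4, 7, 4]) = true := by decide +kernel

theorem rot5_5 : T.rot 5 [2, 3, 6, 1, 6] (sel (ones 462) ip5 5) = true := by decide +kernel

theorem rot5_5r : band (Rule.ok (2 * 0) EX RL ⟨5 :: [2, 3, 6, 1, 6], [2], 5, true⟩) (lall (memL L) [2, 3, 6, 1, 6]) = true := by decide +kernel

theorem rot5_6 : T.rot 5 [2, 7, 6, 1, 2] (sel (ones 462) ip5 6) = true := by decide +kernel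

theorem rot5_6r : band (Rule.ok (2 * 0) EX RL ⟨5 :: [2, 7, 6, 1, 2], [], 5, false⟩) (lall (memL L) [2, 7, 6, 1, 2]) = true := by decide +kernel

theorem rot5_7 : T.rot 5 [8, 7, 6, 5, 8, 7, 6] (sel (ones 462) ip5 7) = true := by decide +kernel

theorem rot5_7r : band (Rule.ok (2 * 0) EX RL ⟨5 :: [8, 7, 6, 5, 8, 7, 6], [], 6, false⟩) (lall (memL L) [8, 7, 6, 5, 8, 7, 6]) = true := by decide +kernel

theorem rot5_8 : T.rot 5 [3, 8, 7, 5, 3, 8, 7] (sel (ones 462) ip5 8) = true := by decide +kernel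

theorem rot5_8r : band (Rule.ok (2 * 0) EX RL ⟨5 :: [3, 8, 7, 5, 3, 8, 7], [], 7, false⟩) (lall (memL L) [3, 8, 7, 5, 3, 8, 7]) = true := by decide +kernel

theorem rot5_9 : T.rot 5 [3, 1, 2, 5, 3, 1, 2] (sel (ones 462) ip5 9) = true := by decide +kernel

theorem rot5_9r : band (Rule.ok (2 * 0) EX RL ⟨5 :: [3, 1, 2, 5, 3, 1, 2], [3], 8, true⟩) (lall (memL L) [3, 1, 2, 5, 3, 1, 2]) = true := by decide +kernel

theorem rot5_10 : T.rot 5 [7, 1, 6, 5, 7, 1, 6] (sel (ones 462) ip5 10) = true := by decide +kernel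

theorem rot5_10r : band (Rule.ok (2 * 0) EX RL ⟨5 :: [7, 1, 6, 5, 7, 1, 6], [], 8, false⟩) (lall (memL L) [7, 1, 6, 5, 7, 1, 6]) = true := by decide +kernel

theorem rot5_11 : T.rot 5 [2, 5, 2, 5, 2, 5, 2, 5, 2] (sel (ones 462) ip5 11) = true := by decide +kernel

theorem rot5_11r : band (Rule.ok (2 * 0) EX RL ⟨5 :: [2, 5, 2, 5, 2, 5, 2, 5, 2], [], 10, false⟩) (lall (memL L) [2, 5, 2, 5, 2, 5, 2, 5, 2]) = true := by decide +kernel

theorem ep2a : T.treePath [4, 3] (Nat.shiftLeft 1 14) 1 = true := by decide +kernel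

theorem ep2b : T.treePath [4, 1, 7] (Nat.shiftLeft 1 53) 1 = true := by decide +kernel

theorem ep2c : band (lall (fun z => Nat.ble z 255) ([4, 3] ++ 5 :: [3, 5, 8])) (concl F IV 507 0x280005c000be003e40000d00001006 (encA ([4, 3] ++ 5 :: [3, 5, 8]) 0)) = true := by decide +kernel

theorem ep2d : band (Rule.ok (2 * 0) EX [] ⟨lapp [4, 1, 7] [3, 5, 8], [], 0, false⟩) (band (lall (memL L) [4, 3]) (lall (memL L) [4, 1, 7])) = true := by decide +kernel

theorem cov5 : T.cover 5 [(sel (ones 462) ip5 1), (sel (ones 462) ip5 2), (sel (ones 462) ip5 3), (sel (ones 462) ip5 4), (sel (ones 462) ip5 5), (sel (ones 462) ip5 6), (sel (ones 462) ip5 7), (sel (ones 462) ip5 8), (sel (ones 462) ip5 9), (sel (ones 462) ip5 10), (sel (ones 462) ip5 11), (Nat.shiftLeft 1 14)] = true := by decide +kernel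

theorem tl5 : T.treeLt 9 5 = true := by decide +kernel

theorem rot6_1 : T.rot 6 [2] (sel (ones 462) ip6 1) = true := by decide +kernel

theorem rot6_1r : band (Rule.ok (2 * 0) EX RL ⟨6 :: [2], [], 17, false⟩) (lall (memL L) [2]) = true := by decide +kernel

theorem rot6_2 : T.rot 6 [6, 6] (sel (ones 462) ip6 2) = true := by decide +kernel

theorem rot6_2r : band (Rule.ok (2 * 0) EX RL ⟨6 :: [6, 6], [], 0, false⟩) (lall (memL L) [6, 6]) = true := by decide +kernel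

theorem rot6_3 : T.rot 6 [3, 9, 1] (sel (ones 462) ip6 3) = true := by decide +kernel

theorem rot6_3r : band (Rule.ok (2 * 0) EX RL ⟨6 :: [3, 9, 1], [], 17, false⟩) (lall (memL L) [3, 9, 1]) = true := by decide +kernel

theorem rot6_4 : T.rot 6 [5, 2, 3, 6, 1] (sel (ones 462) ip6 4) = true := by decide +kernel

theorem rot6_4r : band (Rule.ok (2 * 0) EX RL ⟨6 :: [5, 2, 3, 6, 1], [], 5, true⟩) (lall (memL L) [5, 2, 3, 6, 1]) = true := by decide +kernel

theorem rot6_5 : T.rot 6 [1, 6, 5, 2, 3] (sel (ones 462) ip6 5) = true := by decide +kernel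

theorem rot6_5r : band (Rule.ok (2 * 0) EX RL ⟨6 :: [1, 6, 5, 2, 3], [0, 3], 5, true⟩) (lall (memL L) [1, 6, 5, 2, 3]) = true := by decide +kernel

theorem rot6_6 : T.rot 6 [1, 2, 5, 2, 7] (sel (ones 462) ip6 6) = true := by decide +kernel

theorem rot6_6r : band (Rule.ok (2 * 0) EX RL ⟨6 :: [1, 2, 5, 2, 7], [2, 0, 3], 5, false⟩) (lall (memL L) [1, 2, 5, 2, 7]) = true := by decide +kernel

theorem rot6_7 : T.rot 6 [5, 8, 7, 6, 5, 8, 7] (sel (ones 462) ip6 7) = true := by decide +kernel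

theorem rot6_7r : band (Rule.ok (2 * 0) EX RL ⟨6 :: [5, 8, 7, 6, 5, 8, 7], [3], 6, false⟩) (lall (memL L) [5, 8, 7, 6, 5, 8, 7]) = true := by decide +kernel

theorem rot6_8 : T.rot 6 [5, 7, 1, 6, 5, 7, 1] (sel (ones 462) ip6 8) = true := by decide +kernel

theorem rot6_8r : band (Rule.ok (2 * 0) EX RL ⟨6 :: [5, 7, 1, 6, 5, 7, 1], [3], 8, false⟩) (lall (memL L) [5, 7, 1, 6, 5, 7, 1]) = true := by decide +kernel

theorem rot6_9 : T.rot 6 [1, 6, 1, 6, 1, 6, 1, 6, 1] (sel (ones 462) ip6 9) = true := by decide +kernel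

theorem rot6_9r : band (Rule.ok (2 * 0) EX RL ⟨6 :: [1, 6, 1, 6, 1, 6, 1, 6, 1], [], 10, true⟩) (lall (memL L) [1, 6, 1, 6, 1, 6, 1, 6, 1]) = true := by decide +kernel

theorem rot6_10 : T.rot 6 [10, 2, 9, 9, 6, 10, 2, 9, 9] (sel (ones 462) ip6 10) = true := by decide +kernel

theorem rot6_10r : band (Rule.ok (2 * 0) EX RL ⟨6 :: [10, 2, 9, 9, 6, 10, 2, 9, 9], [4, 3, 0, 3], 13, true⟩) (lall (memL L) [10, 2, 9, 9, 6, 10, 2, 9, 9]) = true := by decide +kernel

theorem rot6_11 : T.rot 6 [9, 2, 10, 10, 6, 9, 2, 10, 10] (sel (ones 462) ip6 11) = true := by decide +kernel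

theorem rot6_11r : band (Rule.ok (2 * 0) EX RL ⟨6 :: [9, 2, 10, 10, 6, 9, 2, 10, 10], [3], 13, false⟩) (lall (memL L) [9, 2, 10, 10, 6, 9, 2, 10, 10]) = true := by decide +kernel

theorem rot6_12 : T.rot 6 [9, 6, 9, 6, 9, 6, 9, 6, 9] (sel (ones 462) ip6 12) = true := by decide +kernel

theorem rot6_12r : band (Rule.ok (2 * 0) EX RL ⟨6 :: [9, 6, 9, 6, 9, 6, 9, 6, 9], [3], 16, false⟩) (lall (memL L) [9, 6, 9, 6, 9, 6, 9, 6, 9]) = true := by decide +kernel

theorem rot6_13 : T.rot 6 [9, 9, 6, 10, 10, 6, 9, 9, 6, 10, 10] (sel (ones 462) ip6 13) = true := by decide +kernel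

theorem rot6_13r : band (Rule.ok (2 * 0) EX RL ⟨6 :: [9, 9, 6, 10, 10, 6, 9, 9, 6, 10, 10], [3], 14, false⟩) (lall (memL L) [9, 9, 6, 10, 10, 6, 9, 9, 6, 10, 10]) = true := by decide +kernel

theorem rot6_14 : T.rot 6 [9, 6, 9, 2, 9, 2, 9, 9, 2, 10, 6, 10] (sel (ones 462) ip6 14) = true := by decide +kernel

theorem rot6_14r : band (Rule.ok (2 * 0) EX RL ⟨6 :: [9, 6, 9, 2, 9, 2, 9, 9, 2, 10, 6, 10], [1, 2, 5, 3, 1, 2, 5, 3], 15, true⟩) (lall (memL L) [9, 6, 9, 2, 9, 2, 9, 9, 2, 10, 6, 10]) = true := by decide +kernel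

theorem rot6_15 : T.rot 6 [9, 2, 9, 2, 9, 9, 2, 10, 6, 10, 6, 9] (sel (ones 462) ip6 15) = true := by decide +kernel

theorem rot6_15r : band (Rule.ok (2 * 0) EX RL ⟨6 :: [9, 2, 9, 2, 9, 9, 2, 10, 6, 10, 6, 9], [1, 2, 5, 3], 15, true⟩) (lall (memL L) [9, 2, 9, 2, 9, 9, 2, 10, 6, 10, 6, 9]) = true := by decide +kernel

theorem rot6_16 : T.rot 6 [10, 10, 6, 10, 6, 10, 2, 10, 2, 9, 2, 9] (sel (ones 462) ip6 16) = true := by decide +kernel

theorem rot6_16r : band (Rule.ok (2 * 0) EX RL ⟨6 :: [10, 10, 6, 10, 6, 10, 2, 10, 2, 9, 2, 9], [3, 4, 3, 0, 3, 4, 3, 0, 4, 3, 0, 3], 15, false⟩) (lall (memL L) [10, 10, 6, 10, 6, 10, 2, 10, 2, 9, 2, 9]) = true := by decide +kernel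

theorem rot6_17 : T.rot 6 [10, 6, 10, 2, 10, 2, 9, 2, 9, 6, 10, 10] (sel (ones 462) ip6 17) = true := by decide +kernel

theorem rot6_17r : band (Rule.ok (2 * 0) EX RL ⟨6 :: [10, 6, 10, 2, 10, 2, 9, 2, 9, 6, 10, 10], [3, 4, 3, 0, 3], 15, false⟩) (lall (memL L) [10, 6, 10, 2, 10, 2, 9, 2, 9, 6, 10, 10]) = true := by decide +kernel

theorem rot6_18 : T.rot 6 [10, 2, 10, 2, 9, 2, 9, 6, 10, 10, 6, 10] (sel (ones 462) ip6 18) = true := by decide +kernel

theorem rot6_18r : band (Rule.ok (2 * 0) EX RL ⟨6 :: [10, 2, 10, 2, 9, 2, 9, 6, 10, 10, 6, 10], [3], 15, false⟩) (lall (memL L) [10, 2, 10, 2, 9, 2, 9, 6, 10, 10, 6, 10]) = true := by decide +kernel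

theorem cov6 : T.cover 6 [(sel (ones 462) ip6 1), (sel (ones 462) ip6 2), (sel (ones 462) ip6 3), (sel (ones 462) ip6 4), (sel (ones 462) ip6 5), (sel (ones 462) ip6 6), (sel (ones 462) ip6 7), (sel (ones 462) ip6 8), (sel (ones 462) ip6 9), (sel (ones 462) ip6 10), (sel (ones 462) ip6 11), (sel (ones 462) ip6 12), (sel (ones 462) ip6 13), (sel (ones 462) ip6 14), (sel (ones 462) ip6 15), (sel (ones 462) ip6 16), (sel (ones 462) ip6 17), (sel (ones 462) ip6 18)] = true := by decide +kernel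

theorem tl6 : T.treeLt 9 6 = true := by decide +kernel

theorem rot7_1 : T.rot 7 [3] (sel (ones 462) ip7 1) = true := by decide +kernel

theorem rot7_1r : band (Rule.ok (2 * 0) EX RL ⟨7 :: [3], [], 17, false⟩) (lall (memL L) [3]) = true := by decide +kernel

theorem rot7_2 : T.rot 7 [7, 7] (sel (ones 462) ip7 2) = true := by decide +kernel

theorem rot7_2r : band (Rule.ok (2 * 0) EX RL ⟨7 :: [7, 7], [], 1, false⟩) (lall (memL L) [7, 7]) = true := by decide +kernel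

theorem rot7_3 : T.rot 7 [2, 5, 10] (sel (ones 462) ip7 3) = true := by decide +kernel

theorem rot7_3r : band (Rule.ok (2 * 0) EX RL ⟨7 :: [2, 5, 10], [], 17, false⟩) (lall (memL L) [2, 5, 10]) = true := by decide +kernel

theorem rot7_4 : T.rot 7 [4, 1, 8, 3, 8] (sel (ones 462) ip7 4) = true := by decide +kernel

theorem rot7_4r : band (Rule.ok (2 * 0) EX RL ⟨7 :: [4, 1, 8, 3, 8], [0, 6, 5], 4, true⟩) (lall (memL L) [4, 1, 8, 3, 8]) = true := by decide +kernel

theorem rot7_5 : T.rot 7 [4, 5, 8, 3, 4] (sel (ones 462) ip7 5) = true := by decide +kernel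

theorem rot7_5r : band (Rule.ok (2 * 0) EX RL ⟨7 :: [4, 5, 8, 3, 4], [6, 5], 4, false⟩) (lall (memL L) [4, 5, 8, 3, 4]) = true := by decide +kernel

theorem rot7_6 : T.rot 7 [6, 1, 2, 5, 2] (sel (ones 462) ip7 6) = true := by decide +kernel

theorem rot7_6r : band (Rule.ok (2 * 0) EX RL ⟨7 :: [6, 1, 2, 5, 2], [0, 3], 5, false⟩) (lall (memL L) [6, 1, 2, 5, 2]) = true := by decide +kernel

theorem rot7_7 : T.rot 7 [6, 5, 8, 7, 6, 5, 8] (sel (ones 462) ip7 7) = true := by decide +kernel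

theorem rot7_7r : band (Rule.ok (2 * 0) EX RL ⟨7 :: [6, 5, 8, 7, 6, 5, 8], [3, 5], 6, false⟩) (lall (memL L) [6, 5, 8, 7, 6, 5, 8]) = true := by decide +kernel

theorem rot7_8 : T.rot 7 [1, 3, 4, 7, 1, 3, 4] (sel (ones 462) ip7 8) = true := by decide +kernel

theorem rot7_8r : band (Rule.ok (2 * 0) EX RL ⟨7 :: [1, 3, 4, 7, 1, 3, 4], [0, 5], 7, true⟩) (lall (memL L) [1, 3, 4, 7, 1, 3, 4]) = true := by decide +kernel

theorem rot7_9 : T.rot 7 [5, 3, 8, 7, 5, 3, 8] (sel (ones 462) ip7 9) = true := by decide +kernel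

theorem rot7_9r : band (Rule.ok (2 * 0) EX RL ⟨7 :: [5, 3, 8, 7, 5, 3, 8], [5], 7, false⟩) (lall (memL L) [5, 3, 8, 7, 5, 3, 8]) = true := by decide +kernel

theorem rot7_10 : T.rot 7 [1, 6, 5, 7, 1, 6, 5] (sel (ones 462) ip7 10) = true := by decide +kernel

theorem rot7_10r : band (Rule.ok (2 * 0) EX RL ⟨7 :: [1, 6, 5, 7, 1, 6, 5], [0], 8, false⟩) (lall (memL L) [1, 6, 5, 7, 1, 6, 5]) = true := by decide +kernel

theorem rot7_11 : T.rot 7 [4, 7, 4, 7, 4, 7, 4, 7, 4] (sel (ones 462) ip7 11) = true := by decide +kernel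

theorem rot7_11r : band (Rule.ok (2 * 0) EX RL ⟨7 :: [4, 7, 4, 7, 4, 7, 4, 7, 4], [], 9, false⟩) (lall (memL L) [4, 7, 4, 7, 4, 7, 4, 7, 4]) = true := by decide +kernel

theorem cov7 : T.cover 7 [(sel (ones 462) ip7 1), (sel (ones 462) ip7 2), (sel (ones 462) ip7 3), (sel (ones 462) ip7 4), (sel (ones 462) ip7 5), (sel (ones 462) ip7 6), (sel (ones 462) ip7 7), (sel (ones 462) ip7 8), (sel (ones 462) ip7 9), (sel (ones 462) ip7 10), (sel (ones 462) ip7 11)] = true := by decide +kernel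

theorem tl7 : T.treeLt 9 7 = true := by decide +kernel

theorem rot8_1 : T.rot 8 [4] (sel (ones 462) ip8 1) = true := by decide +kernel

theorem rot8_1r : band (Rule.ok (2 * 0) EX RL ⟨8 :: [4], [], 17, false⟩) (lall (memL L) [4]) = true := by decide +kernel

theorem rot8_2 : T.rot 8 [8, 8] (sel (ones 462) ip8 2) = true := by decide +kernel

theorem rot8_2r : band (Rule.ok (2 * 0) EX RL ⟨8 :: [8, 8], [], 2, false⟩) (lall (memL L) [8, 8]) = true := by decide +kernel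

theorem rot8_3 : T.rot 8 [3, 8, 7, 4, 1] (sel (ones 462) ip8 3) = true := by decide +kernel

theorem rot8_3r : band (Rule.ok (2 * 0) EX RL ⟨8 :: [3, 8, 7, 4, 1], [], 4, true⟩) (lall (memL L) [3, 8, 7, 4, 1]) = true := by decide +kernel

theorem rot8_4 : T.rot 8 [7, 4, 1, 8, 3] (sel (ones 462) ip8 4) = true := by decide +kernel

theorem rot8_4r : band (Rule.ok (2 * 0) EX RL ⟨8 :: [7, 4, 1, 8, 3], [6, 5], 4, true⟩) (lall (memL L) [7, 4, 1, 8, 3]) = true := by decide +kernel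

theorem rot8_5 : T.rot 8 [3, 4, 7, 4, 5] (sel (ones 462) ip8 5) = true := by decide +kernel

theorem rot8_5r : band (Rule.ok (2 * 0) EX RL ⟨8 :: [3, 4, 7, 4, 5], [0], 4, false⟩) (lall (memL L) [3, 4, 7, 4, 5]) = true := by decide +kernel

theorem rot8_6 : T.rot 8 [7, 6, 5, 8, 7, 6, 5] (sel (ones 462) ip8 6) = true := by decide +kernel

theorem rot8_6r : band (Rule.ok (2 * 0) EX RL ⟨8 :: [7, 6, 5, 8, 7, 6, 5], [0], 6, false⟩) (lall (memL L) [7, 6, 5, 8, 7, 6, 5]) = true := by decide +kernel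

theorem rot8_7 : T.rot 8 [7, 5, 3, 8, 7, 5, 3] (sel (ones 462) ip8 7) = true := by decide +kernel

theorem rot8_7r : band (Rule.ok (2 * 0) EX RL ⟨8 :: [7, 5, 3, 8, 7, 5, 3], [5, 7], 7, false⟩) (lall (memL L) [7, 5, 3, 8, 7, 5, 3]) = true := by decide +kernel

theorem rot8_8 : T.rot 8 [3, 8, 3, 8, 3, 8, 3, 8, 3] (sel (ones 462) ip8 8) = true := by decide +kernel

theorem rot8_8r : band (Rule.ok (2 * 0) EX RL ⟨8 :: [3, 8, 3, 8, 3, 8, 3, 8, 3], [], 9, true⟩) (lall (memL L) [3, 8, 3, 8, 3, 8, 3, 8, 3]) = true := by decide +kernel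

theorem cov8 : T.cover 8 [(sel (ones 462) ip8 1), (sel (ones 462) ip8 2), (sel (ones 462) ip8 3), (sel (ones 462) ip8 4), (sel (ones 462) ip8 5), (sel (ones 462) ip8 6), (sel (ones 462) ip8 7), (sel (ones 462) ip8 8)] = true := by decide +kernel

theorem tl8 : T.treeLt 9 8 = true := by decide +kernel

theorem rot9_1 : T.rot 9 [1, 6, 3] (sel (ones 462) ip9 1) = true := by decide +kernel

theorem rot9_1r : band (Rule.ok (2 * 0) EX RL ⟨9 :: [1, 6, 3], [], 17, false⟩) (lall (memL L) [1, 6, 3]) = true := by decide +kernel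

theorem rot9_2 : T.rot 9 [9, 9, 9, 9, 9] (sel (ones 462) ip9 2) = true := by decide +kernel

theorem rot9_2r : band (Rule.ok (2 * 0) EX RL ⟨9 :: [9, 9, 9, 9, 9], [], 12, true⟩) (lall (memL L) [9, 9, 9, 9, 9]) = true := by decide +kernel

theorem rot9_3 : T.rot 9 [9, 6, 10, 2, 9, 9, 6, 10, 2] (sel (ones 462) ip9 3) = true := by decide +kernel

theorem rot9_3r : band (Rule.ok (2 * 0) EX RL ⟨9 :: [9, 6, 10, 2, 9, 9, 6, 10, 2], [3], 13, true⟩) (lall (memL L) [9, 6, 10, 2, 9, 9, 6, 10, 2]) = true := by decide +kernel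

theorem rot9_4 : T.rot 9 [6, 10, 2, 9, 9, 6, 10, 2, 9] (sel (ones 462) ip9 4) = true := by decide +kernel

theorem rot9_4r : band (Rule.ok (2 * 0) EX RL ⟨9 :: [6, 10, 2, 9, 9, 6, 10, 2, 9], [3, 4, 3, 0], 13, true⟩) (lall (memL L) [6, 10, 2, 9, 9, 6, 10, 2, 9]) = true := by decide +kernel

theorem rot9_5 : T.rot 9 [2, 10, 10, 6, 9, 2, 10, 10, 6] (sel (ones 462) ip9 5) = true := by decide +kernel

theorem rot9_5r : band (Rule.ok (2 * 0) EX RL ⟨9 :: [2, 10, 10, 6, 9, 2, 10, 10, 6], [], 13, false⟩) (lall (memL L) [2, 10, 10, 6, 9, 2, 10, 10, 6]) = true := by decide +kernel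

theorem rot9_6 : T.rot 9 [6, 9, 6, 9, 6, 9, 6, 9, 6] (sel (ones 462) ip9 6) = true := by decide +kernel

theorem rot9_6r : band (Rule.ok (2 * 0) EX RL ⟨9 :: [6, 9, 6, 9, 6, 9, 6, 9, 6], [], 16, false⟩) (lall (memL L) [6, 9, 6, 9, 6, 9, 6, 9, 6]) = true := by decide +kernel

theorem rot9_7 : T.rot 9 [9, 2, 10, 10, 2, 9, 9, 2, 10, 10, 2] (sel (ones 462) ip9 7) = true := by decide +kernel

theorem rot9_7r : band (Rule.ok (2 * 0) EX RL ⟨9 :: [9, 2, 10, 10, 2, 9, 9, 2, 10, 10, 2], [3], 14, true⟩) (lall (memL L) [9, 2, 10, 10, 2, 9, 9, 2, 10, 10, 2]) = true := by decide +kernel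

theorem rot9_8 : T.rot 9 [2, 10, 10, 2, 9, 9, 2, 10, 10, 2, 9] (sel (ones 462) ip9 8) = true := by decide +kernel

theorem rot9_8r : band (Rule.ok (2 * 0) EX RL ⟨9 :: [2, 10, 10, 2, 9, 9, 2, 10, 10, 2, 9], [3, 4, 3, 0], 14, true⟩) (lall (memL L) [2, 10, 10, 2, 9, 9, 2, 10, 10, 2, 9]) = true := by decide +kernel

theorem rot9_9 : T.rot 9 [9, 6, 10, 10, 6, 9, 9, 6, 10, 10, 6] (sel (ones 462) ip9 9) = true := by decide +kernel

theorem rot9_9r : band (Rule.ok (2 * 0) EX RL ⟨9 :: [9, 6, 10, 10, 6, 9, 9, 6, 10, 10, 6], [], 14, false⟩) (lall (memL L) [9, 6, 10, 10, 6, 9, 9, 6, 10, 10, 6]) = true := by decide +kernel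

theorem rot9_10 : T.rot 9 [6, 10, 10, 6, 9, 9, 6, 10, 10, 6, 9] (sel (ones 462) ip9 10) = true := by decide +kernel

theorem rot9_10r : band (Rule.ok (2 * 0) EX RL ⟨9 :: [6, 10, 10, 6, 9, 9, 6, 10, 10, 6, 9], [4, 3, 0], 14, false⟩) (lall (memL L) [6, 10, 10, 6, 9, 9, 6, 10, 10, 6, 9]) = true := by decide +kernel

theorem rot9_11 : T.rot 9 [2, 9, 9, 2, 10, 6, 10, 6, 9, 6, 9, 2] (sel (ones 462) ip9 11) = true := by decide +kernel

theorem rot9_11r : band (Rule.ok (2 * 0) EX RL ⟨9 :: [2, 9, 9, 2, 10, 6, 10, 6, 9, 6, 9, 2], [3], 15, true⟩) (lall (memL L) [2, 9, 9, 2, 10, 6, 10, 6, 9, 6, 9, 2]) = true := by decide +kernel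

theorem rot9_12 : T.rot 9 [9, 2, 10, 6, 10, 6, 9, 6, 9, 2, 9, 2] (sel (ones 462) ip9 12) = true := by decide +kernel

theorem rot9_12r : band (Rule.ok (2 * 0) EX RL ⟨9 :: [9, 2, 10, 6, 10, 6, 9, 6, 9, 2, 9, 2], [3, 4, 3, 0, 3], 15, true⟩) (lall (memL L) [9, 2, 10, 6, 10, 6, 9, 6, 9, 2, 9, 2]) = true := by decide +kernel

theorem rot9_13 : T.rot 9 [2, 10, 6, 10, 6, 9, 6, 9, 2, 9, 2, 9] (sel (ones 462) ip9 13) = true := by decide +kernel

theorem rot9_13r : band (Rule.ok (2 * 0) EX RL ⟨9 :: [2, 10, 6, 10, 6, 9, 6, 9, 2, 9, 2, 9], [3, 4, 3, 0, 3, 4, 3, 0], 15, true⟩) (lall (memL L) [2, 10, 6, 10, 6, 9, 6, 9, 2, 9, 2, 9]) = true := by decide +kernel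

theorem rot9_14 : T.rot 9 [6, 9, 2, 9, 2, 9, 9, 2, 10, 6, 10, 6] (sel (ones 462) ip9 14) = true := by decide +kernel

theorem rot9_14r : band (Rule.ok (2 * 0) EX RL ⟨9 :: [6, 9, 2, 9, 2, 9, 9, 2, 10, 6, 10, 6], [1, 2, 5, 3, 1, 2, 5], 15, true⟩) (lall (memL L) [6, 9, 2, 9, 2, 9, 9, 2, 10, 6, 10, 6]) = true := by decide +kernel

theorem rot9_15 : T.rot 9 [2, 9, 2, 9, 9, 2, 10, 6, 10, 6, 9, 6] (sel (ones 462) ip9 15) = true := by decide +kernel

theorem rot9_15r : band (Rule.ok (2 * 0) EX RL ⟨9 :: [2, 9, 2, 9, 9, 2, 10, 6, 10, 6, 9, 6], [1, 2, 5], 15, true⟩) (lall (memL L) [2, 9, 2, 9, 9, 2, 10, 6, 10, 6, 9, 6]) = true := by decide +kernel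

theorem rot9_16 : T.rot 9 [2, 9, 6, 10, 10, 6, 10, 6, 10, 2, 10, 2] (sel (ones 462) ip9 16) = true := by decide +kernel

theorem rot9_16r : band (Rule.ok (2 * 0) EX RL ⟨9 :: [2, 9, 6, 10, 10, 6, 10, 6, 10, 2, 10, 2], [1, 2, 5, 3, 1, 2, 5, 3], 15, false⟩) (lall (memL L) [2, 9, 6, 10, 10, 6, 10, 6, 10, 2, 10, 2]) = true := by decide +kernel

theorem rot9_17 : T.rot 9 [6, 10, 10, 6, 10, 6, 10, 2, 10, 2, 9, 2] (sel (ones 462) ip9 17) = true := by decide +kernel

theorem rot9_17r : band (Rule.ok (2 * 0) EX RL ⟨9 :: [6, 10, 10, 6, 10, 6, 10, 2, 10, 2, 9, 2], [1, 2, 5, 3, 1, 2, 5, 3, 4, 3, 0, 3], 15, false⟩) (lall (memL L) [6, 10, 10, 6, 10, 6, 10, 2, 10, 2, 9, 2]) = true := by decide +kernel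

theorem cov9 : T.cover 9 [(sel (ones 462) ip9 1), (sel (ones 462) ip9 2), (sel (ones 462) ip9 3), (sel (ones 462) ip9 4), (sel (ones 462) ip9 5), (sel (ones 462) ip9 6), (sel (ones 462) ip9 7), (sel (ones 462) ip9 8), (sel (ones 462) ip9 9), (sel (ones 462) ip9 10), (sel (ones 462) ip9 11), (sel (ones 462) ip9 12), (sel (ones 462) ip9 13), (sel (ones 462) ip9 14), (sel (ones 462) ip9 15), (sel (ones 462) ip9 16), (sel (ones 462) ip9 17), 1] = true := by decide +kernel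

theorem tl9 : Nat.beq (T.let 9).tt 0 = true := by decide +kernel

theorem rot10_1 : T.rot 10 [9] (sel (ones 462) ip10 1) = true := by decide +kernel

theorem rot10_1r : band (Rule.ok (2 * 0) EX RL ⟨10 :: [9], [], 17, false⟩) (lall (memL L) [9]) = true := by decide +kernel

theorem rot10_2 : T.rot 10 [7, 2, 5] (sel (ones 462) ip10 2) = true := by decide +kernel

theorem rot10_2r : band (Rule.ok (2 * 0) EX RL ⟨10 :: [7, 2, 5], [], 17, false⟩) (lall (memL L) [7, 2, 5]) = true := by decide +kernel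

theorem rot10_3 : T.rot 10 [10, 10, 10, 10, 10] (sel (ones 462) ip10 3) = true := by decide +kernel

theorem rot10_3r : band (Rule.ok (2 * 0) EX RL ⟨10 :: [10, 10, 10, 10, 10], [], 12, false⟩) (lall (memL L) [10, 10, 10, 10, 10]) = true := by decide +kernel

theorem rot10_4 : T.rot 10 [2, 9, 9, 6, 10, 2, 9, 9, 6] (sel (ones 462) ip10 4) = true := by decide +kernel

theorem rot10_4r : band (Rule.ok (2 * 0) EX RL ⟨10 :: [2, 9, 9, 6, 10, 2, 9, 9, 6], [4, 3, 0], 13, true⟩) (lall (memL L) [2, 9, 9, 6, 10, 2, 9, 9, 6]) = true := by decide +kernel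

theorem rot10_5 : T.rot 10 [10, 6, 9, 2, 10, 10, 6, 9, 2] (sel (ones 462) ip10 5) = true := by decide +kernel

theorem rot10_5r : band (Rule.ok (2 * 0) EX RL ⟨10 :: [10, 6, 9, 2, 10, 10, 6, 9, 2], [4, 3, 0, 3], 13, false⟩) (lall (memL L) [10, 6, 9, 2, 10, 10, 6, 9, 2]) = true := by decide +kernel

theorem rot10_6 : T.rot 10 [6, 9, 2, 10, 10, 6, 9, 2, 10] (sel (ones 462) ip10 6) = true := by decide +kernel

theorem rot10_6r : band (Rule.ok (2 * 0) EX RL ⟨10 :: [6, 9, 2, 10, 10, 6, 9, 2, 10], [3, 4, 3, 0], 13, false⟩) (lall (memL L) [6, 9, 2, 10, 10, 6, 9, 2, 10]) = true := by decide +kernel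

theorem rot10_7 : T.rot 10 [2, 10, 2, 10, 2, 10, 2, 10, 2] (sel (ones 462) ip10 7) = true := by decide +kernel

theorem rot10_7r : band (Rule.ok (2 * 0) EX RL ⟨10 :: [2, 10, 2, 10, 2, 10, 2, 10, 2], [3], 16, true⟩) (lall (memL L) [2, 10, 2, 10, 2, 10, 2, 10, 2]) = true := by decide +kernel

theorem rot10_8 : T.rot 10 [10, 2, 9, 9, 2, 10, 10, 2, 9, 9, 2] (sel (ones 462) ip10 8) = true := by decide +kernel

theorem rot10_8r : band (Rule.ok (2 * 0) EX RL ⟨10 :: [10, 2, 9, 9, 2, 10, 10, 2, 9, 9, 2], [4, 3, 0, 4, 3, 0], 14, true⟩) (lall (memL L) [10, 2, 9, 9, 2, 10, 10, 2, 9, 9, 2]) = true := by decide +kernel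

theorem rot10_9 : T.rot 10 [2, 9, 9, 2, 10, 10, 2, 9, 9, 2, 10] (sel (ones 462) ip10 9) = true := by decide +kernel

theorem rot10_9r : band (Rule.ok (2 * 0) EX RL ⟨10 :: [2, 9, 9, 2, 10, 10, 2, 9, 9, 2, 10], [4, 3, 0], 14, true⟩) (lall (memL L) [2, 9, 9, 2, 10, 10, 2, 9, 9, 2, 10]) = true := by decide +kernel

theorem rot10_10 : T.rot 10 [6, 9, 9, 6, 10, 10, 6, 9, 9, 6, 10] (sel (ones 462) ip10 10) = true := by decide +kernel

theorem rot10_10r : band (Rule.ok (2 * 0) EX RL ⟨10 :: [6, 9, 9, 6, 10, 10, 6, 9, 9, 6, 10], [3, 4, 3, 0], 14, false⟩) (lall (memL L) [6, 9, 9, 6, 10, 10, 6, 9, 9, 6, 10]) = true := by decide +kernel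

theorem rot10_11 : T.rot 10 [6, 10, 6, 9, 6, 9, 2, 9, 2, 9, 9, 2] (sel (ones 462) ip10 11) = true := by decide +kernel

theorem rot10_11r : band (Rule.ok (2 * 0) EX RL ⟨10 :: [6, 10, 6, 9, 6, 9, 2, 9, 2, 9, 9, 2], [3, 4, 3, 0, 3, 4, 3, 0, 4, 3, 0, 3], 15, true⟩) (lall (memL L) [6, 10, 6, 9, 6, 9, 2, 9, 2, 9, 9, 2]) = true := by decide +kernel

theorem rot10_12 : T.rot 10 [6, 9, 6, 9, 2, 9, 2, 9, 9, 2, 10, 6] (sel (ones 462) ip10 12) = true := by decide +kernel

theorem rot10_12r : band (Rule.ok (2 * 0) EX RL ⟨10 :: [6, 9, 6, 9, 2, 9, 2, 9, 9, 2, 10, 6], [1, 2, 5, 3, 1, 2, 5, 3, 4, 3, 0], 15, true⟩) (lall (memL L) [6, 9, 6, 9, 2, 9, 2, 9, 9, 2, 10, 6]) = true := by decide +kernel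

theorem rot10_13 : T.rot 10 [2, 10, 2, 9, 2, 9, 6, 10, 10, 6, 10, 6] (sel (ones 462) ip10 13) = true := by decide +kernel

theorem rot10_13r : band (Rule.ok (2 * 0) EX RL ⟨10 :: [2, 10, 2, 9, 2, 9, 6, 10, 10, 6, 10, 6], [], 15, false⟩) (lall (memL L) [2, 10, 2, 9, 2, 9, 6, 10, 10, 6, 10, 6]) = true := by decide +kernel

theorem rot10_14 : T.rot 10 [2, 9, 2, 9, 6, 10, 10, 6, 10, 6, 10, 2] (sel (ones 462) ip10 14) = true := by decide +kernel

theorem rot10_14r : band (Rule.ok (2 * 0) EX RL ⟨10 :: [2, 9, 2, 9, 6, 10, 10, 6, 10, 6, 10, 2], [1, 2, 5, 3], 15, false⟩) (lall (memL L) [2, 9, 2, 9, 6, 10, 10, 6, 10, 6, 10, 2]) = true := by decide +kernel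

theorem rot10_15 : T.rot 10 [10, 6, 10, 6, 10, 2, 10, 2, 9, 2, 9, 6] (sel (ones 462) ip10 15) = true := by decide +kernel

theorem rot10_15r : band (Rule.ok (2 * 0) EX RL ⟨10 :: [10, 6, 10, 6, 10, 2, 10, 2, 9, 2, 9, 6], [3, 4, 3, 0, 3, 4, 3, 0, 4, 3, 0], 15, false⟩) (lall (memL L) [10, 6, 10, 6, 10, 2, 10, 2, 9, 2, 9, 6]) = true := by decide +kernel

theorem rot10_16 : T.rot 10 [6, 10, 6, 10, 2, 10, 2, 9, 2, 9, 6, 10] (sel (ones 462) ip10 16) = true := by decide +kernel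

theorem rot10_16r : band (Rule.ok (2 * 0) EX RL ⟨10 :: [6, 10, 6, 10, 2, 10, 2, 9, 2, 9, 6, 10], [3, 4, 3, 0, 3, 4, 3, 0], 15, false⟩) (lall (memL L) [6, 10, 6, 10, 2, 10, 2, 9, 2, 9, 6, 10]) = true := by decide +kernel

theorem rot10_17 : T.rot 10 [6, 10, 2, 10, 2, 9, 2, 9, 6, 10, 10, 6] (sel (ones 462) ip10 17) = true := by decide +kernel

theorem rot10_17r : band (Rule.ok (2 * 0) EX RL ⟨10 :: [6, 10, 2, 10, 2, 9, 2, 9, 6, 10, 10, 6], [3, 4, 3, 0], 15, false⟩) (lall (memL L) [6, 10, 2, 10, 2, 9, 2, 9, 6, 10, 10, 6]) = true := by decide +kernel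

theorem cov10 : T.cover 10 [(sel (ones 462) ip10 1), (sel (ones 462) ip10 2), (sel (ones 462) ip10 3), (sel (ones 462) ip10 4), (sel (ones 462) ip10 5), (sel (ones 462) ip10 6), (sel (ones 462) ip10 7), (sel (ones 462) ip10 8), (sel (ones 462) ip10 9), (sel (ones 462) ip10 10), (sel (ones 462) ip10 11), (sel (ones 462) ip10 12), (sel (ones 462) ip10 13), (sel (ones 462) ip10 14), (sel (ones 462) ip10 15), (sel (ones 462) ip10 16), (sel (ones 462) ip10 17)] = true := by decide +kernel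

theorem tl10 : Nat.beq (T.let 10).tt 0 = true := by decide +kernel

end Cfsg.Agent.Spor.J22
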